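import Mathlib
import Groth.Agent.DivCodimTwo.StalkIdeal
import Groth.Agent.FlatDescent.SheafBC.Rings
import Groth.Agent.TFun.Flat
import Groth.Prelude.Def_BlowUp2

/-!
# Relative effective Cartier divisors on affine charts

* `flat_quot`: flatness of the closed subscheme gives flatness of `Γ(X,U)/I` over `Γ(S,V)`;
* `flat_subscheme`: conversely from a cover by such charts;
* `exists_chart₂`: common charts for two effective Cartier ideals;
* `flat_quot_mul`, `flat_quot_right`: sums and differences of divisors;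
* `flat_of_regular_of_flat_quot`: a Noetherian local ring is flat if it is so modulo a regular element.
-/

set_option autoImplicit false

universe u

open AlgebraicGeometry CategoryTheory TensorProduct

namespace Groth.FlatDescent.DivFlat

variable {X S : Scheme.{u}}

theorem flat_quot (f : X ⟶ S) (𝓘 : X.IdealSheafData) [Flat (𝓘.subschemeι ≫ f)] {V : S.Opens}
    (hV : IsAffineOpen V) (U : X.affineOpens) (e : U.1 ≤ f ⁻¹ᵁ V) :
    letI := (f.appLE V U.1 e).hom.toAlgebra
    Module.Flat Γ(S, V) (Γ(X, U.1) ⧸ 𝓘.ideal U) := by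
  letI : Algebra Γ(S, V) Γ(X, U.1) := (f.appLE V U.1 e).hom.toAlgebra
  let πr := (𝓘.subschemeι.app U.1).hom
  letI : Algebra Γ(S, V) Γ(𝓘.subscheme, 𝓘.subschemeι ⁻¹ᵁ U.1) := (πr.comp (f.appLE V U.1 e).hom).toAlgebra
  let π : Γ(X, U.1) →ₐ[Γ(S, V)] Γ(𝓘.subscheme, 𝓘.subschemeι ⁻¹ᵁ U.1) := { πr with commutes' := fun _ => rfl }
  have hcomp : ((𝓘.subschemeι ≫ f).appLE V (𝓘.subschemeι ⁻¹ᵁ U.1) (fun w hw => e hw)).hom =
      πr.comp (f.appLE V U.1 e).hom := by
    refine RingHom.ext fun r => ?_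
    change _ = (𝓘.subschemeι.app U.1).hom (f.appLE V U.1 e r)
    rw [← CommRingCat.comp_apply, Scheme.Hom.app_eq_appLE, Scheme.Hom.appLE_comp_appLE]
  haveI : Module.Flat Γ(S, V) Γ(𝓘.subscheme, 𝓘.subschemeι ⁻¹ᵁ U.1) := by
    show (πr.comp (f.appLE V U.1 e).hom).Flat
    rw [← hcomp]
    exact (𝓘.subschemeι ≫ f).flat_appLE hV (U.2.preimage 𝓘.subschemeι) _
  have hker : RingHom.ker π.toRingHom = 𝓘.ideal U := Scheme.IdealSheafData.ker_subschemeι_app 𝓘 U
  let eq : (Γ(X, U.1) ⧸ 𝓘.ideal U) ≃ₐ[Γ(S, V)] Γ(𝓘.subscheme, 𝓘.subschemeι ⁻¹ᵁ U.1) :=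
    (Ideal.quotientEquivAlgOfEq Γ(S, V) hker.symm).trans
      (Ideal.quotientKerAlgEquivOfSurjective (f := π) (𝓘.subschemeι_app_surjective U))
  exact Module.Flat.of_linearEquiv eq.toLinearEquiv

theorem flat_subscheme (f : X ⟶ S) (𝓘 : X.IdealSheafData)
    (h : ∀ x : X, ∃ (V : S.Opens) (_ : IsAffineOpen V) (U : X.affineOpens) (e : U.1 ≤ f ⁻¹ᵁ V), x ∈ U.1 ∧
      (letI := (f.appLE V U.1 e).hom.toAlgebra; Module.Flat Γ(S, V) (Γ(X, U.1) ⧸ 𝓘.ideal U))) :
    Flat (𝓘.subschemeι ≫ f) := by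
  rw [HasRingHomProperty.iff_exists_appLE (P := @Flat) (fun R S T _ _ _ _ r _ f hf => RingHom.Flat.comp
    (RingHom.flat_algebraMap_iff.mpr (IsLocalization.flat S (Submonoid.powers r))) hf)]
  intro z
  obtain ⟨V, hV, U, e, hx, hflat⟩ := h (𝓘.subschemeι z)
  refine ⟨⟨V, hV⟩, ⟨𝓘.subschemeι ⁻¹ᵁ U.1, U.2.preimage 𝓘.subschemeι⟩, hx, fun w hw => e hw, ?_⟩
  letI : Algebra Γ(S, V) Γ(X, U.1) := (f.appLE V U.1 e).hom.toAlgebra
  haveI : Module.Flat Γ(S, V) (Γ(X, U.1) ⧸ 𝓘.ideal U) := hflat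
  let e' : (Γ(X, U.1) ⧸ 𝓘.ideal U) ≃+* Γ(𝓘.subscheme, 𝓘.subschemeι ⁻¹ᵁ U.1) :=
    (Ideal.quotEquivOfEq (Scheme.IdealSheafData.ker_subschemeι_app 𝓘 U).symm).trans
      (RingHom.quotientKerEquivOfSurjective (𝓘.subschemeι_app_surjective U))
  have hcomp : ((𝓘.subschemeι ≫ f).appLE V (𝓘.subschemeι ⁻¹ᵁ U.1) (fun w hw => e hw)).hom =
      e'.toRingHom.comp (algebraMap Γ(S, V) (Γ(X, U.1) ⧸ 𝓘.ideal U)) := by
    refine RingHom.ext fun r => ?_
    change _ = (𝓘.subschemeι.app U.1).hom (f.appLE V U.1 e r)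
    rw [← CommRingCat.comp_apply, Scheme.Hom.app_eq_appLE, Scheme.Hom.appLE_comp_appLE]
  rw [hcomp]
  exact RingHom.Flat.comp (RingHom.flat_algebraMap_iff.mpr inferInstance) (RingHom.Flat.of_bijective e'.bijective)

/-- A basic open inside a given open on which an effective Cartier ideal is still generated by a regular element. -/
theorem exists_chart_le {𝓘 : X.IdealSheafData} (h : BlowUp.IsEffCartierIdeal 𝓘) {O : X.Opens} {x : X} (hx : x ∈ O) :
    ∃ U : X.affineOpens, x ∈ U.1 ∧ U.1 ≤ O ∧ ∃ a, a ∈ nonZeroDivisors Γ(X, U.1) ∧ 𝓘.ideal U = Ideal.span {a} := by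
  obtain ⟨U, hxU, a, ha, hI⟩ := h x
  obtain ⟨g, hgle, hxg⟩ := U.2.exists_basicOpen_le (V := O) ⟨x, hx⟩ hxU
  let res := (X.presheaf.map (homOfLE <| X.basicOpen_le g).op).hom
  letI : Algebra Γ(X, U.1) Γ(X, X.basicOpen g) := res.toAlgebra
  haveI : IsLocalization.Away g Γ(X, X.basicOpen g) := U.2.isLocalization_basicOpen g
  refine ⟨X.affineBasicOpen g, hxg, hgle, res a,
    IsLocalization.map_nonZeroDivisors_le (Submonoid.powers g) Γ(X, X.basicOpen g) (Submonoid.mem_map_of_mem _ ha), ?_⟩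
  rw [← 𝓘.map_ideal_basicOpen U g, hI, Ideal.map_span, Set.image_singleton]; rfl

theorem exists_chart₂ {𝓘₁ 𝓘₂ : X.IdealSheafData} (h₁ : BlowUp.IsEffCartierIdeal 𝓘₁)
    (h₂ : BlowUp.IsEffCartierIdeal 𝓘₂) {O : X.Opens} {x : X} (hx : x ∈ O) :
    ∃ U : X.affineOpens, x ∈ U.1 ∧ U.1 ≤ O ∧
      (∃ a, a ∈ nonZeroDivisors Γ(X, U.1) ∧ 𝓘₁.ideal U = Ideal.span {a}) ∧
      (∃ b, b ∈ nonZeroDivisors Γ(X, U.1) ∧ 𝓘₂.ideal U = Ideal.span {b}) := by
  obtain ⟨U₁, hx₁, hle₁, a, ha, hI₁⟩ := exists_chart_le h₁ hx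
  obtain ⟨U₂, hx₂, hle₂, b, hb, hI₂⟩ := exists_chart_le h₂ hx
  obtain ⟨g, g', hgg, hxg⟩ := exists_basicOpen_le_affine_inter U₁.2 U₂.2 x ⟨hx₁, hx₂⟩
  refine ⟨X.affineBasicOpen g, hxg, (X.basicOpen_le g).trans hle₁,
    ⟨(X.presheaf.map (homOfLE <| X.basicOpen_le g).op).hom a, ?_, ?_⟩,
    ⟨(X.presheaf.map (homOfLE <| (hgg.trans_le (X.basicOpen_le g') : X.basicOpen g ≤ U₂.1)).op).hom b, ?_, ?_⟩⟩
  · letI : Algebra Γ(X, U₁.1) Γ(X, X.basicOpen g) := (X.presheaf.map (homOfLE <| X.basicOpen_le g).op).hom.toAlgebra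
    haveI : IsLocalization.Away g Γ(X, X.basicOpen g) := U₁.2.isLocalization_basicOpen g
    exact IsLocalization.map_nonZeroDivisors_le (Submonoid.powers g) Γ(X, X.basicOpen g) (Submonoid.mem_map_of_mem _ ha)
  · rw [← 𝓘₁.map_ideal_basicOpen U₁ g, hI₁, Ideal.map_span, Set.image_singleton]; rfl
  · have key : ∀ (W : X.Opens) (_ : W = X.basicOpen g') (hW : W ≤ U₂.1),
        (X.presheaf.map (homOfLE hW).op).hom b ∈ nonZeroDivisors Γ(X, W) := by
      rintro W rfl hW
      letI : Algebra Γ(X, U₂.1) Γ(X, X.basicOpen g') := (X.presheaf.map (homOfLE hW).op).hom.toAlgebra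
      haveI : IsLocalization.Away g' Γ(X, X.basicOpen g') := U₂.2.isLocalization_basicOpen g'
      exact IsLocalization.map_nonZeroDivisors_le (Submonoid.powers g') Γ(X, X.basicOpen g') (Submonoid.mem_map_of_mem _ hb)
    exact key _ hgg _
  · rw [← 𝓘₂.map_ideal' (U := X.affineBasicOpen g) (V := U₂)
      (homOfLE (hgg.trans_le (X.basicOpen_le g') : X.basicOpen g ≤ U₂.1)).op, hI₂, Ideal.map_span, Set.image_singleton]
    rfl

section Algebra

variable {A B : Type u} [CommRing A] [CommRing B] [Algebra A B] {a b : B}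

private noncomputable def mulQ (a b : B) : (B ⧸ Ideal.span {b}) →ₗ[B] B ⧸ Ideal.span {a * b} :=
  Submodule.mapQ _ _ (LinearMap.mulLeft B a) (fun x hx => by
    obtain ⟨c, rfl⟩ := Ideal.mem_span_singleton'.mp hx
    exact Ideal.mem_span_singleton'.mpr ⟨c, by rw [LinearMap.mulLeft_apply, mul_left_comm]⟩)

private theorem mulQ_props (ha : a ∈ nonZeroDivisors B) :
    Function.Injective (mulQ a b) ∧
    Function.Exact (mulQ a b) (Submodule.factor (show Ideal.span {a * b} ≤ Ideal.span {a} from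
      Ideal.span_singleton_le_span_singleton.mpr (dvd_mul_right a b))) := by
  constructor
  · rw [injective_iff_map_eq_zero]
    intro x hx
    obtain ⟨x, rfl⟩ := Submodule.Quotient.mk_surjective _ x
    rw [mulQ, Submodule.mapQ_apply, LinearMap.mulLeft_apply, Submodule.Quotient.mk_eq_zero,
      Ideal.mem_span_singleton'] at hx
    obtain ⟨c, hc⟩ := hx
    rw [Submodule.Quotient.mk_eq_zero, Ideal.mem_span_singleton']
    exact ⟨c, (mul_cancel_left_mem_nonZeroDivisors ha).mp (by rw [← hc]; ring)⟩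
  · intro y
    obtain ⟨y, rfl⟩ := Submodule.Quotient.mk_surjective _ y
    constructor
    · intro hy
      obtain ⟨c, hc⟩ := Ideal.mem_span_singleton'.mp ((Submodule.Quotient.mk_eq_zero _).mp hy)
      exact ⟨Submodule.Quotient.mk c, by rw [mulQ, Submodule.mapQ_apply, LinearMap.mulLeft_apply, mul_comm a c, hc]; rfl⟩
    · rintro ⟨x, hx⟩
      obtain ⟨x, rfl⟩ := Submodule.Quotient.mk_surjective _ x
      rw [← hx, mulQ, Submodule.mapQ_apply]
      exact (Submodule.Quotient.mk_eq_zero _).mpr (Ideal.mem_span_singleton'.mpr ⟨x, mul_comm _ _⟩)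

theorem flat_mid_aux {R S : Type u} [CommRing R] [CommRing S] [Algebra R S] {M N Q : Type u} [AddCommGroup M]
    [AddCommGroup N] [AddCommGroup Q] [Module S M] [Module S N] [Module S Q] [Module R M] [Module R N] [Module R Q]
    [IsScalarTower R S M] [IsScalarTower R S N] [IsScalarTower R S Q] (g : M →ₗ[S] N) (f : N →ₗ[S] Q)
    (hg : Function.Injective g) (H : Function.Exact g f) (hf : Function.Surjective f) :
    (Module.Flat R M → Module.Flat R Q → Module.Flat R N) ∧ (Module.Flat R N → Module.Flat R Q → Module.Flat R M) :=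
  ⟨fun _ _ => Groth.Agent.TFun.flat_middle (A := R) (g := g.restrictScalars R) (f := f.restrictScalars R) hg H hf,
    fun _ _ => Groth.Agent.TFun.flat_left (A := R) (g := g.restrictScalars R) (f := f.restrictScalars R) hg H hf⟩

theorem flat_quot_mul (ha : a ∈ nonZeroDivisors B) (h1 : Module.Flat A (B ⧸ Ideal.span {a}))
    (h2 : Module.Flat A (B ⧸ Ideal.span {b})) : Module.Flat A (B ⧸ Ideal.span {a * b}) :=
  (flat_mid_aux (R := A) (mulQ a b) _ (mulQ_props ha).1 (mulQ_props ha).2 (Submodule.factor_surjective _)).1 h2 h1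

theorem flat_quot_right (ha : a ∈ nonZeroDivisors B) (h1 : Module.Flat A (B ⧸ Ideal.span {a}))
    (h2 : Module.Flat A (B ⧸ Ideal.span {a * b})) : Module.Flat A (B ⧸ Ideal.span {b}) :=
  (flat_mid_aux (R := A) (mulQ a b) _ (mulQ_props ha).1 (mulQ_props ha).2 (Submodule.factor_surjective _)).2 h2 h1

theorem rTensor_mulLeft (t : B) {M : Type u} [AddCommGroup M] [Module A M] (q : B ⊗[A] M) :
    (LinearMap.mulLeft A t).rTensor M q = t • q := by
  induction q using TensorProduct.induction_on with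
  | zero => simp
  | tmul x m => simp [TensorProduct.smul_tmul']
  | add x y hx hy => rw [map_add, smul_add, hx, hy]

theorem exists_eq_smul {Q : Type u} [AddCommGroup Q] [Module A Q] [Module.Flat A Q] (π : B →ₗ[A] Q) (t : B)
    (hex : Function.Exact (LinearMap.mulLeft A t) π) (hπ : Function.Surjective π)
    (hμ : Function.Injective (LinearMap.mulLeft A t)) (I : Ideal A) (w : B ⊗[A] I)
    (hw : I.subtype.lTensor B w = 0) : ∃ v : B ⊗[A] I, w = t • v ∧ I.subtype.lTensor B v = 0 := by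
  have h1 : π.rTensor I w = 0 := by
    apply Module.Flat.lTensor_preserves_injective_linearMap (M := Q) I.subtype I.injective_subtype
    rw [map_zero, ← LinearMap.comp_apply, LinearMap.lTensor_comp_rTensor, ← LinearMap.rTensor_comp_lTensor,
      LinearMap.comp_apply, hw, map_zero]
  obtain ⟨w₁, rfl⟩ := (rTensor_exact I hex hπ w).mp h1
  refine ⟨w₁, rTensor_mulLeft t w₁, ?_⟩
  have h3 : (LinearMap.mulLeft A t).rTensor A (I.subtype.lTensor B w₁) = 0 := by
    rw [← LinearMap.comp_apply, LinearMap.rTensor_comp_lTensor, ← LinearMap.lTensor_comp_rTensor,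
      LinearMap.comp_apply]
    exact hw
  have hcomm : ∀ q : B ⊗[A] A, (TensorProduct.rid A B) ((LinearMap.mulLeft A t).rTensor A q) =
      LinearMap.mulLeft A t ((TensorProduct.rid A B) q) := by
    intro q
    induction q using TensorProduct.induction_on with
    | zero => simp
    | tmul x r => simp [mul_smul_comm]
    | add x y hx hy => simp only [map_add, hx, hy]
  have h4 := hcomm (I.subtype.lTensor B w₁)
  rw [h3, map_zero] at h4
  exact (TensorProduct.rid A B).map_eq_zero_iff.mp ((injective_iff_map_eq_zero _).mp hμ _ h4.symm)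

/-- A Noetherian local ring is flat over `A` if it is so modulo a regular element of the maximal ideal. -/
theorem flat_of_regular_of_flat_quot [IsLocalRing B] [IsNoetherianRing B] {t : B}
    (ht : t ∈ nonZeroDivisors B) (htm : t ∈ IsLocalRing.maximalIdeal B)
    (hQ : Module.Flat A (B ⧸ Ideal.span {t})) : Module.Flat A B := by
  rw [Module.Flat.iff_lTensor_injective]
  intro I hI
  haveI : Module.Finite A I := Module.Finite.iff_fg.mpr hI
  let π : B →ₗ[A] B ⧸ Ideal.span {t} := (Ideal.Quotient.mkₐ A (Ideal.span {t})).toLinearMap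
  have hπ : Function.Surjective π := Ideal.Quotient.mk_surjective
  have hex : Function.Exact (LinearMap.mulLeft A t) π := fun y => by
    show Ideal.Quotient.mk _ y = 0 ↔ _
    rw [Ideal.Quotient.eq_zero_iff_mem, Ideal.mem_span_singleton']
    exact ⟨fun ⟨c, hc⟩ => ⟨c, by rw [← hc]; exact mul_comm t c⟩, fun ⟨c, hc⟩ => ⟨c, by rw [← hc]; exact mul_comm c t⟩⟩
  have hμ : Function.Injective (LinearMap.mulLeft A t) := fun x y h => (mul_cancel_left_mem_nonZeroDivisors ht).mp h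
  have key : ∀ n : ℕ, ∀ w : B ⊗[A] I, I.subtype.lTensor B w = 0 → ∃ v : B ⊗[A] I, w = t ^ n • v := by
    intro n
    induction n with
    | zero => exact fun w _ => ⟨w, by rw [pow_zero, one_smul]⟩
    | succ n ih =>
      intro w hw
      obtain ⟨w₁, hw₁, hw₁'⟩ := @exists_eq_smul A B _ _ _ _ _ _ hQ π t hex hπ hμ I w hw
      obtain ⟨v, rfl⟩ := ih w₁ hw₁'
      exact ⟨v, by rw [hw₁, ← mul_smul, ← pow_succ']⟩
  rw [injective_iff_map_eq_zero]
  intro z hz
  have hne : Ideal.span {t} ≠ ⊤ := fun h => (IsLocalRing.maximalIdeal.isMaximal B).ne_top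
    (eq_top_iff.mpr (h ▸ (Ideal.span_singleton_le_iff_mem _).mpr htm))
  have hbot := Ideal.iInf_pow_smul_eq_bot_of_isLocalRing (M := B ⊗[A] I) (I := Ideal.span {t}) hne
  rw [← Submodule.mem_bot B, ← hbot, Submodule.mem_iInf]
  intro n
  obtain ⟨v, rfl⟩ := key n z hz
  exact Submodule.smul_mem_smul (Ideal.pow_mem_pow (Ideal.mem_span_singleton_self t) n) Submodule.mem_top

end Algebra

end Groth.FlatDescent.DivFlat
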